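import Mathlib

set_option autoImplicit false
set_option linter.style.haveILetI false

universe u

namespace Groth.Agent.H8.Res33

section LOC

variable {C D E : Type*} [CommRing C] [CommRing D] [CommRing E] [Algebra D E] [Algebra C E]
  (ι : C →+* D) (𝔔 : Ideal D) [𝔔.IsPrime] [IsLocalization.AtPrime E 𝔔]

/-- elements of `D` that become fractions of elements of `C` with denominators outside `𝔔`. -/
def goodSubring : Subring D where
  carrier := {d | ∃ s c : C, ι s ∉ 𝔔 ∧ d * ι s = ι c}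
  mul_mem' := by
    rintro a b ⟨s₁, c₁, hs₁, h₁⟩ ⟨s₂, c₂, hs₂, h₂⟩
    refine ⟨s₁ * s₂, c₁ * c₂, ?_, ?_⟩
    · rw [map_mul]
      exact fun h => (Ideal.IsPrime.mem_or_mem inferInstance h).elim hs₁ hs₂
    · rw [map_mul, map_mul, ← h₁, ← h₂]
      ring
  one_mem' := ⟨1, 1, by
    rw [map_one]
    exact fun h => (Ideal.IsPrime.ne_top inferInstance) ((Ideal.eq_top_iff_one _).mpr h), by simp⟩
  add_mem' := by
    rintro a b ⟨s₁, c₁, hs₁, h₁⟩ ⟨s₂, c₂, hs₂, h₂⟩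
    refine ⟨s₁ * s₂, c₁ * s₂ + c₂ * s₁, ?_, ?_⟩
    · rw [map_mul]
      exact fun h => (Ideal.IsPrime.mem_or_mem inferInstance h).elim hs₁ hs₂
    · rw [map_add, map_mul, map_mul, map_mul, ← h₁, ← h₂]
      ring
  zero_mem' := ⟨1, 0, by
    rw [map_one]
    exact fun h => (Ideal.IsPrime.ne_top inferInstance) ((Ideal.eq_top_iff_one _).mpr h), by simp⟩
  neg_mem' := by
    rintro a ⟨s₁, c₁, hs₁, h₁⟩
    exact ⟨s₁, -c₁, hs₁, by rw [map_neg, ← h₁]; ring⟩

theorem mem_goodSubring_iff (d : D) :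
    d ∈ goodSubring ι 𝔔 ↔ ∃ s c : C, ι s ∉ 𝔔 ∧ d * ι s = ι c := Iff.rfl

theorem map_mem_goodSubring (c : C) : ι c ∈ goodSubring ι 𝔔 :=
  ⟨1, c, by
    rw [map_one]
    exact fun h => (Ideal.IsPrime.ne_top inferInstance) ((Ideal.eq_top_iff_one _).mpr h), by simp⟩

/-- the localisation of `D` at `𝔔` is the localisation of `C` at the contraction. -/
theorem isLocalization_atPrime_of_ker_killed
    (hcomp : ∀ c, algebraMap C E c = algebraMap D E (ι c))
    (w₀ : C) (hw₀ : ι w₀ ∉ 𝔔) (hker : ∀ c, ι c = 0 → w₀ * c = 0)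
    (hsurj : ∀ d : D, d ∈ goodSubring ι 𝔔) :
    IsLocalization.AtPrime E (𝔔.comap ι) := by
  have hmul : ∀ {a b : D}, a ∉ 𝔔 → b ∉ 𝔔 → a * b ∉ 𝔔 := fun ha hb h =>
    (Ideal.IsPrime.mem_or_mem inferInstance h).elim ha hb
  refine (isLocalization_iff _ _).mpr ⟨?_, ?_, ?_⟩
  · rintro ⟨s, hs⟩
    rw [hcomp]
    exact IsLocalization.map_units E (⟨ι s, hs⟩ : 𝔔.primeCompl)
  · intro e
    obtain ⟨⟨d, t⟩, hdt⟩ := IsLocalization.surj 𝔔.primeCompl e
    obtain ⟨s₁, c₁, hs₁, h₁⟩ := hsurj d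
    obtain ⟨s₂, c₂, hs₂, h₂⟩ := hsurj t
    have hc₂ : ι c₂ ∉ 𝔔 := by
      rw [← h₂]
      exact hmul t.2 hs₂
    refine ⟨(c₁ * s₂, ⟨c₂ * s₁, ?_⟩), ?_⟩
    · show ι (c₂ * s₁) ∉ 𝔔
      rw [map_mul]
      exact hmul hc₂ hs₁
    · show e * algebraMap C E (c₂ * s₁) = algebraMap C E (c₁ * s₂)
      rw [hcomp, hcomp]
      have e1 : ι (c₂ * s₁) = (t : D) * ι s₂ * ι s₁ := by rw [map_mul, h₂]
      have e2 : ι (c₁ * s₂) = d * ι s₁ * ι s₂ := by rw [map_mul, h₁]
      rw [e1, e2, map_mul, map_mul, map_mul, map_mul]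
      have hdt' : e * algebraMap D E t = algebraMap D E d := hdt
      rw [← hdt']
      ring
  · intro c c' hcc
    rw [hcomp, hcomp] at hcc
    obtain ⟨t, ht⟩ := (IsLocalization.eq_iff_exists 𝔔.primeCompl E).mp hcc
    obtain ⟨s₂, c₂, hs₂, h₂⟩ := hsurj t
    have hc₂ : ι c₂ ∉ 𝔔 := by
      rw [← h₂]
      exact hmul t.2 hs₂
    have h0 : ι (c₂ * (c - c')) = 0 := by
      rw [map_mul, map_sub, ← h₂]
      have : (t : D) * ι s₂ * (ι c - ι c') = ι s₂ * ((t : D) * ι c - (t : D) * ι c') := by ring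
      rw [this, ht, sub_self, mul_zero]
    have h1 := hker _ h0
    refine ⟨⟨w₀ * c₂, ?_⟩, ?_⟩
    · show ι (w₀ * c₂) ∉ 𝔔
      rw [map_mul]
      exact hmul hw₀ hc₂
    · show w₀ * c₂ * c = w₀ * c₂ * c'
      have h2 : w₀ * c₂ * c - w₀ * c₂ * c' = w₀ * (c₂ * (c - c')) := by ring
      rw [← sub_eq_zero, h2, h1]

end LOC

section Poly

open Polynomial

theorem polynomial_subring_eq_top {R : Type*} [CommRing R] (S : Subring (Polynomial R))
    (hC : ∀ r, C r ∈ S) (hX : (X : Polynomial R) ∈ S) : ∀ p, p ∈ S := by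
  intro p
  induction p using Polynomial.induction_on' with
  | add p q hp hq => exact S.add_mem hp hq
  | monomial n a =>
    rw [← Polynomial.C_mul_X_pow_eq_monomial]
    exact S.mul_mem (hC a) (S.pow_mem hX n)

theorem polynomial2_subring_eq_top {T : Type*} [CommRing T] (S : Subring (Polynomial (Polynomial T)))
    (hC : ∀ t : T, C (C t) ∈ S) (hz : C (X : Polynomial T) ∈ S)
    (hw : (X : Polynomial (Polynomial T)) ∈ S) : ∀ p, p ∈ S := by
  apply polynomial_subring_eq_top S _ hw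
  intro a
  have := polynomial_subring_eq_top (S.comap (C : Polynomial T →+* Polynomial (Polynomial T)))
    (fun t => hC t) hz a
  exact this

end Poly

end Groth.Agent.H8.Res33
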