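import Mathlib
import Groth.Prelude
import Groth.Agent.Lib.Helper8.Res33.A

set_option autoImplicit false
set_option linter.style.haveILetI false

universe u

open Polynomial

namespace Groth.Agent.H8.Res33

section Maps

variable {R A₁ Λ Λq T : Type u} [CommRing R] [CommRing A₁] [Algebra R A₁]
  [CommRing Λ] [Algebra R Λ]
  [CommRing Λq] [Algebra Λ Λq] [Algebra R Λq] [IsScalarTower R Λ Λq]
  [CommRing T] [Algebra R T]
  (ι₁ : A₁ →ₐ[R] Polynomial T) (γ₁ : A₁ →ₐ[R] Λ) (hT : T →ₐ[R] Λq) (σ τ : Λ)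

noncomputable def ι' : Polynomial A₁ →ₐ[R] Polynomial T :=
  Polynomial.aevalTower ι₁ X

noncomputable def ι'' : Polynomial (Polynomial A₁) →ₐ[R] Polynomial (Polynomial T) :=
  Polynomial.mapAlgHom (ι' ι₁)

noncomputable def γ' : Polynomial A₁ →ₐ[R] Λ :=
  Polynomial.aevalTower γ₁ σ

noncomputable def γ'' : Polynomial (Polynomial A₁) →ₐ[R] Λ :=
  Polynomial.aevalTower (γ' γ₁ σ) τ

noncomputable def hz : Polynomial T →ₐ[R] Λq :=
  Polynomial.aevalTower hT (algebraMap Λ Λq σ)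

noncomputable def hD : Polynomial (Polynomial T) →ₐ[R] Λq :=
  Polynomial.aevalTower (hz hT σ) (algebraMap Λ Λq τ)

@[simp] lemma ι'_C (p : A₁) : ι' ι₁ (C p) = ι₁ p := by simp [ι']
@[simp] lemma ι'_X : ι' ι₁ X = X := by simp [ι']
@[simp] lemma ι''_C (p : Polynomial A₁) : ι'' ι₁ (C p) = C (ι' ι₁ p) := by
  simp [ι'']
@[simp] lemma ι''_X : ι'' ι₁ X = X := by simp [ι'']
@[simp] lemma γ'_C (p : A₁) : γ' γ₁ σ (C p) = γ₁ p := by simp [γ']
@[simp] lemma γ'_X : γ' γ₁ σ X = σ := by simp [γ']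
@[simp] lemma γ''_C (p : Polynomial A₁) : γ'' γ₁ σ τ (C p) = γ' γ₁ σ p := by simp [γ'']
@[simp] lemma γ''_X : γ'' γ₁ σ τ X = τ := by simp [γ'']
@[simp] lemma hz_C (t : T) : hz hT σ (C t) = hT t := by simp [hz]
@[simp] lemma hz_X : hz hT σ (X : Polynomial T) = algebraMap Λ Λq σ := by simp [hz]
@[simp] lemma hD_C (p : Polynomial T) : hD hT σ τ (C p) = hz hT σ p := by simp [hD]
@[simp] lemma hD_X : hD hT σ τ (X : Polynomial (Polynomial T)) = algebraMap Λ Λq τ := by simp [hD]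

lemma ι''_coeff (c : Polynomial (Polynomial A₁)) (i : ℕ) :
    (ι'' ι₁ c).coeff i = ι' ι₁ (c.coeff i) := by
  simp [ι'', Polynomial.coeff_map]

lemma γ''_eq_sum (c : Polynomial (Polynomial A₁)) :
    γ'' γ₁ σ τ c = ∑ i ∈ Finset.range (c.natDegree + 1), γ' γ₁ σ (c.coeff i) * τ ^ i := by
  have h : γ'' γ₁ σ τ c = eval₂ ((γ' γ₁ σ : Polynomial A₁ →ₐ[R] Λ) : Polynomial A₁ →+* Λ) τ c := rfl
  rw [h, eval₂_eq_sum_range]
  rfl

variable (compat₁ : ∀ p, algebraMap Λ Λq (γ₁ p) = hz hT σ (ι₁ p))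

include compat₁ in
theorem compat' (p : Polynomial A₁) :
    algebraMap Λ Λq (γ' γ₁ σ p) = hz hT σ (ι' ι₁ p) := by
  have h : (algebraMap Λ Λq).comp (γ' γ₁ σ : Polynomial A₁ →+* Λ) =
      (hz hT σ : Polynomial T →+* Λq).comp (ι' ι₁ : Polynomial A₁ →+* Polynomial T) := by
    apply Polynomial.ringHom_ext
    · intro a
      simp only [RingHom.comp_apply, RingHom.coe_coe, γ'_C, ι'_C]
      exact compat₁ a
    · simp
  exact RingHom.congr_fun h p

include compat₁ in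
theorem compat'' (p : Polynomial (Polynomial A₁)) :
    algebraMap Λ Λq (γ'' γ₁ σ τ p) = hD hT σ τ (ι'' ι₁ p) := by
  have h : (algebraMap Λ Λq).comp (γ'' γ₁ σ τ : Polynomial (Polynomial A₁) →+* Λ) =
      (hD hT σ τ : Polynomial (Polynomial T) →+* Λq).comp
        (ι'' ι₁ : Polynomial (Polynomial A₁) →+* Polynomial (Polynomial T)) := by
    apply Polynomial.ringHom_ext
    · intro a
      simp only [RingHom.comp_apply, RingHom.coe_coe, γ''_C, ι''_C, hD_C]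
      exact compat' ι₁ γ₁ hT σ compat₁ a
    · simp
  exact RingHom.congr_fun h p

end Maps

end Groth.Agent.H8.Res33
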