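import Mathlib
import Groth.Prelude
import Groth.Agent.Lib.Helper8.Res33.B

set_option autoImplicit false
set_option linter.style.haveILetI false

universe u

open Polynomial

namespace Groth.Agent.H8.Res33

section CoreAux

variable {R A₁ Λ Λq T : Type u} [CommRing R]
  [CommRing A₁] [Algebra R A₁]
  [CommRing Λ] [Algebra R Λ]
  (𝔮 : Ideal Λ) [𝔮.IsPrime]
  [CommRing Λq] [Algebra Λ Λq] [IsLocalization.AtPrime Λq 𝔮] [Algebra R Λq] [IsScalarTower R Λ Λq]
  [CommRing T] [Algebra R T] [Algebra.FormallySmooth R T]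
  (hT : T →ₐ[R] Λq) (ι₁ : A₁ →ₐ[R] Polynomial T) (γ₁ : A₁ →ₐ[R] Λ) (σ τ : Λ)

theorem core_aux {C' : Type u} [CommRing C'] [Algebra R C'] [Algebra.FinitePresentation R C']
    (π : Polynomial (Polynomial A₁) →ₐ[R] C') (hC : C' →ₐ[R] Λ)
    (ιt : C' →ₐ[R] Polynomial (Polynomial T))
    (hπ : Function.Surjective π)
    (hC_mk : ∀ c, hC (π c) = γ'' γ₁ σ τ c) (hιt : ∀ c, ιt (π c) = ι'' ι₁ c)
    (hπker : ∀ c, ι'' ι₁ c = 0 → γ'' γ₁ σ τ c = 0 → π c = 0)
    (hσ : σ ∉ 𝔮) (hτ : τ ∉ 𝔮)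
    (hτK : ∀ k, ι' ι₁ k = 0 → τ * γ' γ₁ σ k = 0)
    (compat₁ : ∀ p, algebraMap Λ Λq (γ₁ p) = hz hT σ (ι₁ p))
    {J : Type*} (y : J → T) (Y : J → A₁) (hY : ∀ j, ι₁ (Y j) = X * C (y j))
    (hgen : ∀ S : Subring T,
      (∀ x : T, (∃ s : R, algebraMap R Λ s ∉ 𝔮 ∧
        ∃ r : R, x * algebraMap R T s = algebraMap R T r) → x ∈ S) →
      (∀ j, y j ∈ S) → ∀ t, t ∈ S) :
    ¬ (Smoothing.singularIdeal R C').map hC ≤ 𝔮 := by
  classical
  haveI : IsLocalRing Λq := IsLocalization.AtPrime.isLocalRing Λq 𝔮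
  have hunit : ∀ l : Λ, l ∉ 𝔮 → IsUnit (algebraMap Λ Λq l) := fun l hl =>
    IsLocalization.map_units Λq (⟨l, hl⟩ : 𝔮.primeCompl)
  -- the prime `𝔔`
  obtain ⟨𝔔, h𝔔⟩ : ∃ 𝔔 : Ideal (Polynomial (Polynomial T)),
      𝔔 = (IsLocalRing.maximalIdeal Λq).comap (hD hT σ τ).toRingHom := ⟨_, rfl⟩
  haveI h𝔔p : 𝔔.IsPrime := by
    rw [h𝔔]
    infer_instance
  have hmem𝔔 : ∀ d, d ∉ 𝔔 ↔ IsUnit (hD hT σ τ d) := fun d => by
    rw [h𝔔, Ideal.mem_comap, IsLocalRing.mem_maximalIdeal, mem_nonunits_iff, not_not]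
    rfl
  -- compatibility
  have F1 : ∀ c : C', algebraMap Λ Λq (hC c) = hD hT σ τ (ιt c) := by
    intro c
    obtain ⟨c, rfl⟩ := hπ c
    rw [hC_mk, hιt, compat'' ι₁ γ₁ hT σ τ compat₁]
  have F2 : ∀ c : C', ιt c ∈ 𝔔 ↔ hC c ∈ 𝔮 := by
    intro c
    rw [← not_iff_not, hmem𝔔, ← F1]
    exact IsLocalization.AtPrime.isUnit_to_map_iff Λq 𝔮 (hC c)
  -- images of the basic elements
  have hX : ιt (π X) = X := by rw [hιt, ι''_X]
  have hCX : ιt (π (C X)) = C X := by rw [hιt, ι''_C, ι'_X]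
  have hXn : (X : Polynomial (Polynomial T)) ∉ 𝔔 := by
    rw [hmem𝔔, hD_X]
    exact hunit τ hτ
  have hCXn : (C X : Polynomial (Polynomial T)) ∉ 𝔔 := by
    rw [hmem𝔔, hD_C, hz_X]
    exact hunit σ hσ
  letI algCE : Algebra C' (Localization.AtPrime 𝔔) :=
    ((algebraMap (Polynomial (Polynomial T)) (Localization.AtPrime 𝔔)).comp ιt.toRingHom).toAlgebra
  have hker : ∀ c : C', ιt.toRingHom c = 0 → π X * c = 0 := by
    intro c hc
    obtain ⟨c, rfl⟩ := hπ c
    have hc' : ι'' ι₁ c = 0 := by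
      rw [← hιt]
      exact hc
    rw [← map_mul]
    apply hπker
    · rw [map_mul, hc', mul_zero]
    · rw [map_mul, γ''_X, γ''_eq_sum, Finset.mul_sum]
      apply Finset.sum_eq_zero
      intro i _
      have h0 : ι' ι₁ (c.coeff i) = 0 := by rw [← ι''_coeff, hc', Polynomial.coeff_zero]
      rw [← mul_assoc, hτK _ h0, zero_mul]
  have hsurj : ∀ d, d ∈ goodSubring ιt.toRingHom 𝔔 := by
    apply polynomial2_subring_eq_top
    · intro t
      have key : t ∈ (goodSubring ιt.toRingHom 𝔔).comap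
          ((C : Polynomial T →+* Polynomial (Polynomial T)).comp (C : T →+* Polynomial T)) := by
        refine hgen _ ?_ ?_ t
        · rintro x ⟨s, hs, r, hr⟩
          have e1 : ∀ r : R, ιt (algebraMap R C' r) = C (C (algebraMap R T r)) := fun r => by
            rw [ιt.commutes, Polynomial.algebraMap_apply, Polynomial.algebraMap_apply]
          show (C (C x) : Polynomial (Polynomial T)) ∈ goodSubring ιt.toRingHom 𝔔
          rw [mem_goodSubring_iff]
          refine ⟨algebraMap R C' s, algebraMap R C' r, ?_, ?_⟩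
          · show ιt (algebraMap R C' s) ∉ 𝔔
            rw [e1, hmem𝔔, hD_C, hz_C, hT.commutes, IsScalarTower.algebraMap_apply R Λ Λq]
            exact hunit _ hs
          · show C (C x) * ιt (algebraMap R C' s) = ιt (algebraMap R C' r)
            rw [e1, e1, ← C_mul, ← C_mul, hr]
        · intro j
          show (C (C (y j)) : Polynomial (Polynomial T)) ∈ goodSubring ιt.toRingHom 𝔔
          rw [mem_goodSubring_iff]
          refine ⟨π (C X), π (C (C (Y j))), ?_, ?_⟩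
          · show ιt (π (C X)) ∉ 𝔔
            rw [hCX]
            exact hCXn
          · show C (C (y j)) * ιt (π (C X)) = ιt (π (C (C (Y j))))
            rw [hCX, hιt, ι''_C, ι'_C, hY, ← C_mul, mul_comm]
      exact key
    · have h1 := map_mem_goodSubring ιt.toRingHom 𝔔 (π (C X))
      have e : ιt.toRingHom (π (C X)) = C X := hCX
      rwa [e] at h1
    · have h1 := map_mem_goodSubring ιt.toRingHom 𝔔 (π X)
      have e : ιt.toRingHom (π X) = X := hX
      rwa [e] at h1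
  haveI hloc : IsLocalization.AtPrime (Localization.AtPrime 𝔔) (𝔔.comap ιt.toRingHom) :=
    isLocalization_atPrime_of_ker_killed (E := Localization.AtPrime 𝔔) ιt.toRingHom 𝔔
      (fun c => rfl) (π X) (by show ιt (π X) ∉ 𝔔; rw [hX]; exact hXn) hker hsurj
  -- formal smoothness
  haveI : Algebra.FormallySmooth R (Polynomial T) := Algebra.FormallySmooth.comp R T (Polynomial T)
  haveI : Algebra.FormallySmooth R (Polynomial (Polynomial T)) :=
    Algebra.FormallySmooth.comp R (Polynomial T) (Polynomial (Polynomial T))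
  haveI : Algebra.FormallySmooth (Polynomial (Polynomial T)) (Localization.AtPrime 𝔔) :=
    Algebra.FormallySmooth.of_isLocalization 𝔔.primeCompl
  haveI : Algebra.FormallySmooth R (Localization.AtPrime 𝔔) :=
    Algebra.FormallySmooth.comp R (Polynomial (Polynomial T)) (Localization.AtPrime 𝔔)
  haveI : IsScalarTower R C' (Localization.AtPrime 𝔔) := IsScalarTower.of_algebraMap_eq (fun r => by
    show algebraMap R (Localization.AtPrime 𝔔) r =
      algebraMap (Polynomial (Polynomial T)) (Localization.AtPrime 𝔔) (ιt (algebraMap R C' r))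
    rw [ιt.commutes, ← IsScalarTower.algebraMap_apply])
  have hsm : (⟨𝔔.comap ιt.toRingHom, inferInstance⟩ : PrimeSpectrum C') ∈
      Algebra.smoothLocus R C' := by
    show Algebra.FormallySmooth R (Localization.AtPrime (𝔔.comap ιt.toRingHom))
    have e : Localization.AtPrime 𝔔 ≃ₐ[R] Localization.AtPrime (𝔔.comap ιt.toRingHom) :=
      (IsLocalization.algEquiv (𝔔.comap ιt.toRingHom).primeCompl (Localization.AtPrime 𝔔)
        (Localization.AtPrime (𝔔.comap ιt.toRingHom))).restrictScalars R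
    exact Algebra.FormallySmooth.of_equiv (A := Localization.AtPrime 𝔔) e
  intro hle
  have hsub : Smoothing.singularIdeal R C' ≤ 𝔔.comap ιt.toRingHom := by
    intro c hc
    show ιt c ∈ 𝔔
    rw [F2]
    exact hle (Ideal.mem_map_of_mem _ hc)
  have h1 : (⟨𝔔.comap ιt.toRingHom, inferInstance⟩ : PrimeSpectrum C') ∈
      PrimeSpectrum.zeroLocus
        ((PrimeSpectrum.vanishingIdeal (Algebra.smoothLocus R C')ᶜ : Ideal C') : Set C') :=
    (PrimeSpectrum.mem_zeroLocus _ _).mpr hsub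
  rw [PrimeSpectrum.zeroLocus_vanishingIdeal_eq_closure,
    (Algebra.isOpen_smoothLocus.isClosed_compl).closure_eq] at h1
  exact h1 hsm

end CoreAux

section Synonym

variable {A₁ : Type u} [CommRing A₁] (K : Ideal (Polynomial (Polynomial A₁)))

/-- the quotient `A₁[z][w]/K` as a type synonym with fixed instances. -/
def Cq : Type u := Polynomial (Polynomial A₁) ⧸ K

noncomputable instance : CommRing (Cq K) :=
  inferInstanceAs (CommRing (Polynomial (Polynomial A₁) ⧸ K))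

noncomputable instance (R : Type u) [CommRing R] [Algebra R A₁] : Algebra R (Cq K) :=
  inferInstanceAs (Algebra R (Polynomial (Polynomial A₁) ⧸ K))

instance (R A : Type u) [CommRing R] [CommRing A] [Algebra R A] [Algebra R A₁] [Algebra A A₁]
    [IsScalarTower R A A₁] : IsScalarTower R A (Cq K) :=
  inferInstanceAs (IsScalarTower R A (Polynomial (Polynomial A₁) ⧸ K))

/-- the projection. -/
noncomputable def πq (R : Type u) [CommRing R] [Algebra R A₁] :
    Polynomial (Polynomial A₁) →ₐ[R] Cq K :=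
  Ideal.Quotient.mkₐ R K

lemma πq_surjective (R : Type u) [CommRing R] [Algebra R A₁] : Function.Surjective (πq K R) :=
  Ideal.Quotient.mkₐ_surjective R K

lemma πq_eq_zero_iff (R : Type u) [CommRing R] [Algebra R A₁] (c : Polynomial (Polynomial A₁)) :
    πq K R c = 0 ↔ c ∈ K :=
  Ideal.Quotient.eq_zero_iff_mem

/-- lifting maps to the quotient. -/
noncomputable def liftq (R : Type u) [CommRing R] [Algebra R A₁] {B : Type u} [CommRing B]
    [Algebra R B] (f : Polynomial (Polynomial A₁) →ₐ[R] B) (hf : ∀ a ∈ K, f a = 0) :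
    Cq K →ₐ[R] B :=
  Ideal.Quotient.liftₐ K f hf

lemma liftq_πq (R : Type u) [CommRing R] [Algebra R A₁] {B : Type u} [CommRing B]
    [Algebra R B] (f : Polynomial (Polynomial A₁) →ₐ[R] B) (hf : ∀ a ∈ K, f a = 0)
    (c : Polynomial (Polynomial A₁)) : liftq K R f hf (πq K R c) = f c := rfl

lemma algebraMap_Cq (A : Type u) [CommRing A] [Algebra A A₁] (a : A) :
    algebraMap A (Cq K) a = πq K A (C (C (algebraMap A A₁ a))) := rfl

lemma finitePresentation_Cq (R : Type u) [CommRing R] [Algebra R A₁]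
    [Algebra.FinitePresentation R A₁] (hK : K.FG) : Algebra.FinitePresentation R (Cq K) := by
  haveI : Algebra.FinitePresentation R (Polynomial (Polynomial A₁)) := inferInstance
  exact Algebra.FinitePresentation.quotient hK

end Synonym

section Core

variable {R A A₁ Λ Λq T : Type u} [CommRing R] [CommRing A] [Algebra R A]
  [CommRing A₁] [Algebra R A₁] [Algebra A A₁] [IsScalarTower R A A₁]
  [IsNoetherianRing A₁] [Algebra.FinitePresentation R A₁]
  [CommRing Λ] [Algebra R Λ] (φ : A →ₐ[R] Λ)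
  (𝔮 : Ideal Λ) [𝔮.IsPrime]
  [CommRing Λq] [Algebra Λ Λq] [IsLocalization.AtPrime Λq 𝔮] [Algebra R Λq] [IsScalarTower R Λ Λq]
  [CommRing T] [Algebra R T] [Algebra.FormallySmooth R T]
  (hT : T →ₐ[R] Λq) (ι₁ : A₁ →ₐ[R] Polynomial T) (γ₁ : A₁ →ₐ[R] Λ) (σ : Λ)

theorem core (hσ : σ ∉ 𝔮) (hγA : ∀ a, γ₁ (algebraMap A A₁ a) = φ a)
    (compat₁ : ∀ p, algebraMap Λ Λq (γ₁ p) = hz hT σ (ι₁ p))
    {J : Type*} (y : J → T) (Y : J → A₁) (hY : ∀ j, ι₁ (Y j) = X * C (y j))
    (hgen : ∀ S : Subring T,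
      (∀ x : T, (∃ s : R, algebraMap R Λ s ∉ 𝔮 ∧
        ∃ r : R, x * algebraMap R T s = algebraMap R T r) → x ∈ S) →
      (∀ j, y j ∈ S) → ∀ t, t ∈ S) :
    ∃ (C' : Type u) (_ : CommRing C') (_ : Algebra R C'), Algebra.FinitePresentation R C' ∧
      ∃ (g : A →ₐ[R] C') (h : C' →ₐ[R] Λ), h.comp g = φ ∧
        ¬ (Smoothing.singularIdeal R C').map h ≤ 𝔮 := by
  classical
  -- the kernel and `τ`
  set K₀ : Ideal (Polynomial A₁) := RingHom.ker (ι' ι₁) with hK₀
  obtain ⟨F, hF⟩ : K₀.FG := IsNoetherian.noetherian K₀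
  have hzero : ∀ k ∈ K₀, algebraMap Λ Λq (γ' γ₁ σ k) = 0 := fun k hk => by
    rw [compat' ι₁ γ₁ hT σ compat₁ k, (RingHom.mem_ker.mp hk), map_zero]
  have hex : ∀ k : Polynomial A₁, ∃ t : 𝔮.primeCompl,
      k ∈ K₀ → (t : Λ) * γ' γ₁ σ k = 0 := by
    intro k
    by_cases hk : k ∈ K₀
    · obtain ⟨t, ht⟩ := (IsLocalization.map_eq_zero_iff 𝔮.primeCompl Λq _).mp (hzero k hk)
      exact ⟨t, fun _ => ht⟩
    · exact ⟨1, fun h => absurd h hk⟩
  choose tt htt using hex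
  set τ : Λ := ((∏ k ∈ F, tt k : 𝔮.primeCompl) : Λ) with hτdef
  have hτ : τ ∉ 𝔮 := (∏ k ∈ F, tt k : 𝔮.primeCompl).2
  have hτprod : τ = ∏ k ∈ F, (tt k : Λ) := by
    rw [hτdef, Submonoid.coe_finset_prod]
  have hτK : ∀ k ∈ K₀, τ * γ' γ₁ σ k = 0 := by
    intro k hk
    rw [← hF] at hk
    refine Submodule.span_induction ?_ ?_ ?_ ?_ hk
    · intro x hx
      obtain ⟨u, hu⟩ := Finset.dvd_prod_of_mem (fun k => (tt k : Λ)) hx
      rw [hτprod, hu, mul_right_comm, htt x (hF ▸ Ideal.subset_span hx), zero_mul]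
    · simp
    · intro a b _ _ ha hb
      rw [map_add, mul_add, ha, hb, add_zero]
    · intro a b _ hb
      rw [smul_eq_mul, map_mul, mul_left_comm, hb, mul_zero]
  -- the algebra `C`
  obtain ⟨K₁, hK₁⟩ : ∃ K₁ : Ideal (Polynomial (Polynomial A₁)),
      K₁ = RingHom.ker (ι'' ι₁) ⊓ RingHom.ker (γ'' γ₁ σ τ) := ⟨_, rfl⟩
  have hK₁mem : ∀ c, c ∈ K₁ ↔ ι'' ι₁ c = 0 ∧ γ'' γ₁ σ τ c = 0 := by
    intro c
    rw [hK₁, Ideal.mem_inf, RingHom.mem_ker, RingHom.mem_ker]
  haveI : IsNoetherianRing (Polynomial (Polynomial A₁)) := inferInstance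
  haveI hfp : Algebra.FinitePresentation R (Cq K₁) :=
    finitePresentation_Cq K₁ R (IsNoetherian.noetherian K₁)
  have hf2 : ∀ a ∈ K₁, γ'' γ₁ σ τ a = 0 := fun x hx => ((hK₁mem x).mp hx).2
  have hf1 : ∀ a ∈ K₁, ι'' ι₁ a = 0 := fun x hx => ((hK₁mem x).mp hx).1
  refine ⟨Cq K₁, inferInstance, inferInstance, hfp,
    IsScalarTower.toAlgHom R A (Cq K₁), liftq K₁ R (γ'' γ₁ σ τ) hf2, ?_, ?_⟩
  · ext a
    show liftq K₁ R (γ'' γ₁ σ τ) hf2 (algebraMap A (Cq K₁) a) = φ a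
    rw [algebraMap_Cq]
    show liftq K₁ R (γ'' γ₁ σ τ) hf2 (πq K₁ R (C (C (algebraMap A A₁ a)))) = φ a
    rw [liftq_πq, γ''_C, γ'_C, hγA]
  · refine core_aux (C' := Cq K₁) 𝔮 hT ι₁ γ₁ σ τ (πq K₁ R)
      (liftq K₁ R (γ'' γ₁ σ τ) hf2) (liftq K₁ R (ι'' ι₁) hf1)
      (πq_surjective K₁ R) (fun c => liftq_πq K₁ R _ hf2 c) (fun c => liftq_πq K₁ R _ hf1 c)
      ?_ hσ hτ (fun k hk => hτK k (RingHom.mem_ker.mpr hk)) compat₁ y Y hY hgen
    intro c h1 h2
    exact (πq_eq_zero_iff K₁ R c).mpr ((hK₁mem c).mpr ⟨h1, h2⟩)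

end Core

end Groth.Agent.H8.Res33
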