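import Mathlib
import Groth.Prelude
import Groth.Agent.Lib.Helper8.Res33.C

set_option autoImplicit false
set_option linter.style.haveILetI false

universe u

open Polynomial TensorProduct

namespace Groth.Agent.H8.Res33

section Wrapper

/-- from a formally smooth chart `T` to the conclusion. -/
theorem of_chart {R A Λ Λq T : Type u} [CommRing R] [IsNoetherianRing R] [CommRing A]
    [Algebra R A] [Algebra.FinitePresentation R A] [CommRing Λ] [Algebra R Λ] (φ : A →ₐ[R] Λ)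
    (𝔮 : Ideal Λ) [𝔮.IsPrime]
    [CommRing Λq] [Algebra Λ Λq] [IsLocalization.AtPrime Λq 𝔮] [Algebra R Λq]
    [IsScalarTower R Λ Λq]
    [CommRing T] [Algebra R T] [Algebra.FormallySmooth R T]
    (aT : A →ₐ[R] T) (hT : T →ₐ[R] Λq)
    (hcompat : ∀ a, hT (aT a) = algebraMap Λ Λq (φ a))
    {J : Type u} [Finite J] (y : J → T)
    (hgen : ∀ S : Subring T,
      (∀ x : T, (∃ s : R, algebraMap R Λ s ∉ 𝔮 ∧
        ∃ r : R, x * algebraMap R T s = algebraMap R T r) → x ∈ S) →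
      (∀ j, y j ∈ S) → ∀ t, t ∈ S) :
    ∃ (C' : Type u) (_ : CommRing C') (_ : Algebra R C'), Algebra.FinitePresentation R C' ∧
      ∃ (g : A →ₐ[R] C') (h : C' →ₐ[R] Λ), h.comp g = φ ∧
        ¬ (Smoothing.singularIdeal R C').map h ≤ 𝔮 := by
  classical
  obtain ⟨b, hb⟩ := IsLocalization.exist_integer_multiples_of_finite 𝔮.primeCompl
    (fun j => hT (y j))
  have hb' : ∀ j, ∃ l : Λ, algebraMap Λ Λq l = (b : Λ) • hT (y j) := fun j =>
    RingHom.mem_rangeS.mp (hb j)
  choose μ hμ using hb'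
  haveI : IsNoetherianRing A := Algebra.FiniteType.isNoetherianRing R A
  obtain ⟨ι₁, hι₁⟩ : ∃ ι₁ : MvPolynomial J A →ₐ[R] Polynomial T, ι₁ =
    MvPolynomial.aevalTower ((Polynomial.CAlgHom (R := R) (A := T)).comp aT)
      (fun j => X * C (y j)) := ⟨_, rfl⟩
  obtain ⟨γ₁, hγ₁⟩ : ∃ γ₁ : MvPolynomial J A →ₐ[R] Λ, γ₁ = MvPolynomial.aevalTower φ μ :=
    ⟨_, rfl⟩
  refine core (A₁ := MvPolynomial J A) φ 𝔮 hT ι₁ γ₁ (b : Λ) b.2 ?_ ?_ y
    (fun j => MvPolynomial.X j) ?_ hgen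
  · intro a
    rw [hγ₁, MvPolynomial.algebraMap_eq, MvPolynomial.aevalTower_C]
  · intro p
    have h : (algebraMap Λ Λq).comp (γ₁ : MvPolynomial J A →+* Λ) =
        ((hz hT (b : Λ) : Polynomial T →+* Λq)).comp
          (ι₁ : MvPolynomial J A →+* Polynomial T) := by
      apply MvPolynomial.ringHom_ext
      · intro a
        simp only [RingHom.comp_apply, RingHom.coe_coe, hι₁, hγ₁, MvPolynomial.aevalTower_C,
          AlgHom.comp_apply, Polynomial.CAlgHom_apply, hz_C]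
        exact (hcompat a).symm
      · intro j
        simp only [RingHom.comp_apply, RingHom.coe_coe, hι₁, hγ₁, MvPolynomial.aevalTower_X,
          map_mul, hz_X, hz_C]
        rw [hμ j, Algebra.smul_def]
    exact RingHom.congr_fun h p
  · intro j
    rw [hι₁]
    exact MvPolynomial.aevalTower_X _ _ j

/-- from a resolution `B` of the local problem and a chart `T = B_c`. -/
theorem of_resolution {R A Λ Rₚ Λq B T : Type u} [CommRing R] [IsNoetherianRing R] [CommRing A]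
    [Algebra R A] [Algebra.FinitePresentation R A] [CommRing Λ] [Algebra R Λ] (φ : A →ₐ[R] Λ)
    (𝔮 : Ideal Λ) [𝔮.IsPrime]
    [CommRing Rₚ] [Algebra R Rₚ] [IsLocalization.AtPrime Rₚ (𝔮.comap (algebraMap R Λ))]
    [CommRing Λq] [Algebra Λ Λq] [IsLocalization.AtPrime Λq 𝔮] [Algebra R Λq]
    [IsScalarTower R Λ Λq] [Algebra Rₚ Λq] [IsScalarTower R Rₚ Λq]
    [CommRing B] [Algebra Rₚ B] [Algebra.FinitePresentation Rₚ B] [Algebra R B]
    [IsScalarTower R Rₚ B]
    (g : Rₚ ⊗[R] A →ₐ[Rₚ] B) (h : B →ₐ[Rₚ] Λq)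
    (hcomp : h.comp g = (Algebra.TensorProduct.lift (Algebra.ofId Rₚ Λq)
      ((IsScalarTower.toAlgHom R Λ Λq).comp φ) (fun _ _ => Commute.all _ _) :
        Rₚ ⊗[R] A →ₐ[Rₚ] Λq))
    (c : B) (hcu : IsUnit (h c))
    [CommRing T] [Algebra B T] [IsLocalization.Away c T] [Algebra R T] [Algebra Rₚ T]
    [IsScalarTower Rₚ B T] [IsScalarTower R B T] [IsScalarTower R Rₚ T]
    [Algebra.FormallySmooth Rₚ T] :
    ∃ (C' : Type u) (_ : CommRing C') (_ : Algebra R C'), Algebra.FinitePresentation R C' ∧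
      ∃ (g : A →ₐ[R] C') (h : C' →ₐ[R] Λ), h.comp g = φ ∧
        ¬ (Smoothing.singularIdeal R C').map h ≤ 𝔮 := by
  classical
  haveI : Algebra.FormallySmooth R Rₚ :=
    Algebra.FormallySmooth.of_isLocalization (𝔮.comap (algebraMap R Λ)).primeCompl
  haveI : Algebra.FormallySmooth R T := Algebra.FormallySmooth.comp R Rₚ T
  obtain ⟨aT, haT⟩ : ∃ aT : A →ₐ[R] T, aT = (IsScalarTower.toAlgHom R B T).comp
      ((g.restrictScalars R).comp Algebra.TensorProduct.includeRight) := ⟨_, rfl⟩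
  have hunits : ∀ y : Submonoid.powers c, IsUnit ((h.restrictScalars R) y) := by
    rintro ⟨_, n, rfl⟩
    show IsUnit (h (c ^ n))
    rw [map_pow]
    exact hcu.pow n
  obtain ⟨hT, hhT⟩ : ∃ hT : T →ₐ[R] Λq, hT =
      IsLocalization.liftAlgHom (M := Submonoid.powers c) (f := h.restrictScalars R) hunits :=
    ⟨_, rfl⟩
  have hTB : ∀ b : B, hT (algebraMap B T b) = h b := fun b => by
    rw [hhT, IsLocalization.liftAlgHom_apply, IsLocalization.lift_eq]
    rfl
  have hcompat : ∀ a, hT (aT a) = algebraMap Λ Λq (φ a) := by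
    intro a
    have e1 : aT a = algebraMap B T (g (1 ⊗ₜ a)) := by
      rw [haT]
      rfl
    rw [e1, hTB]
    have e2 := AlgHom.congr_fun hcomp (1 ⊗ₜ a)
    rw [AlgHom.comp_apply] at e2
    rw [e2, Algebra.TensorProduct.lift_tmul, map_one, one_mul]
    rfl
  haveI : Algebra.FinitePresentation Rₚ T := Algebra.FinitePresentation.of_isLocalizationAway c
  haveI : Algebra.FiniteType Rₚ T := inferInstance
  obtain ⟨s, hs⟩ := (Algebra.FiniteType.out : (⊤ : Subalgebra Rₚ T).FG)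
  refine of_chart φ 𝔮 aT hT hcompat (J := ↥s) (fun j => (j : T)) ?_
  intro S hS1 hS2 t
  have ht : t ∈ Algebra.adjoin Rₚ (s : Set T) := by
    rw [hs]
    trivial
  induction ht using Algebra.adjoin_induction with
  | mem x hx => exact hS2 ⟨x, hx⟩
  | algebraMap ρ =>
    apply hS1
    obtain ⟨⟨r, s'⟩, hrs⟩ := IsLocalization.surj (𝔮.comap (algebraMap R Λ)).primeCompl ρ
    refine ⟨s', s'.2, r, ?_⟩
    rw [IsScalarTower.algebraMap_apply R Rₚ T, IsScalarTower.algebraMap_apply R Rₚ T, ← map_mul]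
    exact congrArg _ hrs
  | add x y _ _ hx hy => exact S.add_mem hx hy
  | mul x y _ _ hx hy => exact S.mul_mem hx hy

theorem main2033 {R A Λ Rₚ Λq : Type u} [CommRing R] [IsNoetherianRing R] [CommRing A]
    [Algebra R A] [Algebra.FinitePresentation R A] [CommRing Λ] [Algebra R Λ] (φ : A →ₐ[R] Λ)
    (𝔮 : Ideal Λ) [𝔮.IsPrime]
    [CommRing Rₚ] [Algebra R Rₚ] [IsLocalization.AtPrime Rₚ (𝔮.comap (algebraMap R Λ))]
    [CommRing Λq] [Algebra Λ Λq] [IsLocalization.AtPrime Λq 𝔮] [Algebra R Λq]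
    [IsScalarTower R Λ Λq] [Algebra Rₚ Λq] [IsScalarTower R Rₚ Λq]
    (hres : Smoothing.Resolvable Rₚ
      (Algebra.TensorProduct.lift (Algebra.ofId Rₚ Λq) ((IsScalarTower.toAlgHom R Λ Λq).comp φ)
        (fun _ _ => Commute.all _ _) : Rₚ ⊗[R] A →ₐ[Rₚ] Λq) (𝔮.map (algebraMap Λ Λq))) :
    ∃ (C : Type u) (_ : CommRing C) (_ : Algebra R C), Algebra.FinitePresentation R C ∧
      ∃ (g : A →ₐ[R] C) (h : C →ₐ[R] Λ), h.comp g = φ ∧
        ¬ (Smoothing.singularIdeal R C).map h ≤ 𝔮 := by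
  classical
  obtain ⟨B, _, _, hBfp, g, h, hcomp, -, hnot⟩ := hres
  haveI : IsLocalRing Λq := IsLocalization.AtPrime.isLocalRing Λq 𝔮
  have hmax : 𝔮.map (algebraMap Λ Λq) = IsLocalRing.maximalIdeal Λq :=
    IsLocalization.AtPrime.map_eq_maximalIdeal 𝔮 Λq
  have hnot' : ¬ (Smoothing.singularIdeal Rₚ B).map h ≤ IsLocalRing.maximalIdeal Λq := by
    intro hle
    apply hnot
    rw [hmax]
    show ((Smoothing.singularIdeal Rₚ B).map h).radical ≤ _
    exact (Ideal.IsPrime.radical_le_iff inferInstance).mpr hle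
  obtain ⟨c, hc, hcu⟩ : ∃ c ∈ Smoothing.singularIdeal Rₚ B, IsUnit (h c) := by
    by_contra hcon
    apply hnot'
    rw [Ideal.map_le_iff_le_comap]
    intro c hc
    rw [Ideal.mem_comap, IsLocalRing.mem_maximalIdeal, mem_nonunits_iff]
    exact fun hu => hcon ⟨c, hc, hu⟩
  letI : Algebra R B := Algebra.compHom B (algebraMap R Rₚ)
  haveI : IsScalarTower R Rₚ B := IsScalarTower.of_algebraMap_eq (fun _ => rfl)
  haveI : IsScalarTower R Rₚ (Localization.Away c) := IsScalarTower.of_algebraMap_eq (fun r => by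
    rw [IsScalarTower.algebraMap_apply R B (Localization.Away c),
      IsScalarTower.algebraMap_apply R Rₚ B, ← IsScalarTower.algebraMap_apply Rₚ B])
  haveI : Algebra.FormallySmooth Rₚ (Localization.Away c) := by
    rw [← Algebra.basicOpen_subset_smoothLocus_iff]
    intro p hp
    by_contra hps
    exact hp ((PrimeSpectrum.mem_vanishingIdeal _ _).mp hc p hps)
  exact of_resolution (T := Localization.Away c) φ 𝔮 g h hcomp c hcu

end Wrapper

end Groth.Agent.H8.Res33
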